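import Groth.Agent.FilKInj.General
import Groth.Agent.KInj.Existence
import Mathlib.CategoryTheory.Adjunction.Evaluation
import Mathlib.CategoryTheory.Abelian.GrothendieckAxioms.FunctorCategory
import Mathlib.CategoryTheory.Generator.Presheaf
import Mathlib.Algebra.Homology.Functor
import Mathlib.Order.WithBot

/-!
Resolutions of poset-indexed diagrams of complexes by pointwise K-injective diagrams
with degreewise split transition maps.
-/

set_option backward.isDefEq.respectTransparency false
set_option backward.isDefEq.respectTransparency.types false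
set_option autoImplicit false

universe v u

namespace Groth.Agent.FilKInj

open CategoryTheory Category Limits HomologicalComplex

variable {A : Type u} [Category.{v} A] [Abelian A] [IsGrothendieckAbelian.{v} A]
variable (P : Type v) [Preorder P]

instance isGrothendieckAbelian_diagram : IsGrothendieckAbelian.{v} (Pᵒᵖ ⥤ A) where
  ab5OfSize := ⟨fun J _ _ => inferInstance⟩

variable {P}

lemma mono_sigmaMap_of_subsingleton {T : Type v} [Subsingleton T] {f g : T → A} (p : ∀ t, f t ⟶ g t)
    [∀ t, Mono (p t)] : Mono (Limits.Sigma.map p) := by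
  refine ⟨fun {Z} a b hab => ?_⟩
  rcases isEmpty_or_nonempty T with hT | ⟨⟨t⟩⟩
  · have h0 : 𝟙 (∐ f) = 0 := Sigma.hom_ext _ _ fun t => isEmptyElim t
    rw [← comp_id a, ← comp_id b, h0, comp_zero, comp_zero]
  · let r : ∀ (h : T → A), (∐ h) ⟶ h t := fun h =>
      Sigma.desc fun t' => eqToHom (congrArg h (Subsingleton.elim t' t))
    have hr : ∀ h : T → A, r h ≫ Sigma.ι h t = 𝟙 _ := fun h => Sigma.hom_ext _ _ fun t' => by
      obtain rfl := Subsingleton.elim t t'
      simp [r]
    have h1 := hab =≫ r g
    have h2 : Limits.Sigma.map p ≫ r g = r f ≫ p t := Sigma.hom_ext _ _ fun t' => by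
      obtain rfl := Subsingleton.elim t t'
      simp [r]
    rw [assoc, assoc, h2, ← assoc, ← assoc, cancel_mono] at h1
    rw [← comp_id a, ← comp_id b, ← hr f, ← assoc, ← assoc, h1]

variable (c : Pᵒᵖ)

instance preservesMonomorphisms_left : (evaluationLeftAdjoint A c).PreservesMonomorphisms where
  preserves {X Y} f _ := by
    have : ∀ t, Mono (((evaluationLeftAdjoint A c).map f).app t) := fun t => by
      have e : ((evaluationLeftAdjoint A c).map f).app t = Limits.Sigma.map (fun _ : c ⟶ t => f) :=
        Sigma.hom_ext _ _ fun h => by simp [evaluationLeftAdjoint]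
      rw [e]
      exact mono_sigmaMap_of_subsingleton _
    exact NatTrans.mono_of_mono_app _

lemma injective_app {I : Pᵒᵖ ⥤ A} (hI : Injective I) : Injective (I.obj c) :=
  Injective.injective_of_adjoint (evaluationAdjunctionRight A c) I

lemma isKInjective_app {I : CochainComplex (Pᵒᵖ ⥤ A) ℤ} (hI : I.IsKInjective) :
    CochainComplex.IsKInjective (I.asFunctor.obj c) := by
  let adj := evaluationAdjunctionRight A c
  haveI : (evaluationLeftAdjoint A c).IsLeftAdjoint := adj.isLeftAdjoint
  haveI : (evaluationLeftAdjoint A c).PreservesZeroMorphisms :=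
    Functor.preservesZeroMorphisms_of_map_zero_object ((IsInitial.isInitialObj (evaluationLeftAdjoint A c) _ (isZero_zero A).isInitial).uniqueUpToIso (isZero_zero _).isInitial)
  haveI : PreservesBinaryBiproducts (evaluationLeftAdjoint A c) := by
    haveI := adj.leftAdjoint_preservesColimits.{0, 0}
    exact preservesBinaryBiproducts_of_preservesBinaryCoproducts _
  haveI : (evaluationLeftAdjoint A c).Additive := Functor.additive_of_preservesBinaryBiproducts _
  haveI : PreservesFiniteColimits (evaluationLeftAdjoint A c) := by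
    haveI := adj.leftAdjoint_preservesColimits
    exact PreservesColimitsOfSize.preservesFiniteColimits.{0, 0} _
  haveI : (evaluationLeftAdjoint A c).PreservesHomology :=
    Functor.preservesHomology_of_preservesMonos_and_cokernels _
  haveI : PreservesFiniteLimits (evaluationLeftAdjoint A c) :=
    Functor.preservesFiniteLimits_of_preservesHomology _
  exact KInj.isKInjective_rightAdjoint adj I hI

variable {c}

lemma exists_section {I : Pᵒᵖ ⥤ A} (hI : Injective I) {a b : Pᵒᵖ} (f : a ⟶ b) :
    ∃ s : I.obj b ⟶ I.obj a, s ≫ I.map f = 𝟙 _ := by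
  classical
  let m : (evaluationLeftAdjoint A b).obj (I.obj b) ⟶ (evaluationLeftAdjoint A a).obj (I.obj b) :=
    { app := fun t => Sigma.desc fun g => Sigma.ι (fun _ : a ⟶ t => I.obj b) (f ≫ g)
      naturality := fun t t' h => by
        apply Sigma.hom_ext
        intro g
        simp [evaluationLeftAdjoint] }
  have : Mono m := by
    have : ∀ t, Mono (m.app t) := fun t => by
      let r : (∐ fun _ : a ⟶ t => I.obj b) ⟶ ∐ fun _ : b ⟶ t => I.obj b :=
        Sigma.desc fun g => if h : Nonempty (b ⟶ t) then Sigma.ι (fun _ : b ⟶ t => I.obj b) h.some else 0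
      refine (SplitMono.mk r (Sigma.hom_ext _ _ fun g => ?_)).mono
      simp only [m, r, comp_id]
      erw [Sigma.ι_desc_assoc, Sigma.ι_desc]
      rw [dif_pos ⟨g⟩, Subsingleton.elim (Nonempty.some ⟨g⟩) g]
    exact NatTrans.mono_of_mono_app _
  let α : (evaluationLeftAdjoint A b).obj (I.obj b) ⟶ I :=
    { app := fun t => Sigma.desc fun g => I.map g
      naturality := fun t t' h => by
        apply Sigma.hom_ext
        intro g
        simp [evaluationLeftAdjoint] }
  obtain ⟨β, hβ⟩ := hI.factors α m
  refine ⟨Sigma.ι (fun _ : a ⟶ a => I.obj b) (𝟙 a) ≫ β.app a, ?_⟩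
  have h1 := β.naturality f
  have h2 : Sigma.ι (fun _ : b ⟶ b => I.obj b) (𝟙 b) ≫ (m ≫ β).app b = 𝟙 _ := by
    rw [hβ]
    simp [α]
  simp only [m, NatTrans.comp_app] at h2
  erw [Sigma.ι_desc_assoc] at h2
  rw [assoc, ← h1]
  simp only [evaluationLeftAdjoint]
  erw [Sigma.ι_desc_assoc]
  simpa using h2

omit [IsGrothendieckAbelian.{v} A] in
/-- A diagram of complexes as a complex of diagrams. -/
@[simps]
noncomputable def ofDiagram (D : Pᵒᵖ ⥤ CochainComplex A ℤ) : CochainComplex (Pᵒᵖ ⥤ A) ℤ where
  X n := D ⋙ eval A (ComplexShape.up ℤ) n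
  d i j := { app := fun t => (D.obj t).d i j, naturality := fun _ _ f => (D.map f).comm i j }
  shape i j h := by ext t; exact (D.obj t).shape i j h
  d_comp_d' i j k _ _ := by ext t; exact (D.obj t).d_comp_d i j k

/-- Every diagram of complexes has a pointwise K-injective resolution with degreewise split transition maps. -/
theorem exists_resolution (D : Pᵒᵖ ⥤ CochainComplex A ℤ) :
    ∃ (R : Pᵒᵖ ⥤ CochainComplex A ℤ) (η : D ⟶ R),
      (∀ c, (R.obj c).IsKInjective) ∧ (∀ c, QuasiIso (η.app c)) ∧
      (∀ c n, Injective ((R.obj c).X n)) ∧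
      ∀ {a b : Pᵒᵖ} (f : a ⟶ b) (n : ℤ), ∃ s, s ≫ (R.map f).f n = 𝟙 _ := by
  obtain ⟨I, j, hI, hj, -, hinj⟩ := KInj.exists_kInjective (ofDiagram D)
  refine ⟨I.asFunctor,
    { app := fun c => { f := fun n => (j.f n).app c
                        comm' := fun i k _ => congrArg (fun τ => NatTrans.app τ c) (j.comm i k) }
      naturality := fun a b f => by ext n; exact (j.f n).naturality f },
    fun c => isKInjective_app c hI, fun c => ?_, fun c n => injective_app c (hinj n),
    fun f n => exists_section (hinj n) f⟩
  exact (quasiIso_map_of_preservesHomology j ((evaluation Pᵒᵖ A).obj c) : _)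

end Groth.Agent.FilKInj
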