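import Groth.Agent.FilKInj.Diagram
import Groth.Prelude.Def_SpSeq

/-!
K-injective resolutions of filtered complexes, from resolutions of the diagram of quotients.
-/

set_option backward.isDefEq.respectTransparency false
set_option backward.isDefEq.respectTransparency.types false
set_option autoImplicit false

universe v u

namespace Groth.Agent.FilKInj

open CategoryTheory Category Limits HomologicalComplex

variable {A : Type u} [Category.{v} A] [Abelian A]

/-- The indices: the integers and one top element, standing for the whole complex. -/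
abbrev Idx : Type v := ULift.{v} (WithTop ℤ)

/-- The steps, with zero at the top index. -/
noncomputable def filTop (K : SpSeq.FilCx A) : Idx.{v} → Subobject K.obj := fun q => WithTop.recTopCoe ⊥ K.fil q.down

lemma filTop_anti (K : SpSeq.FilCx A) : Antitone (filTop K) := by
  rintro ⟨a⟩ ⟨b⟩ (h : a ≤ b)
  induction b using WithTop.recTopCoe with
  | top => exact bot_le
  | coe b =>
    induction a using WithTop.recTopCoe with
    | top => exact absurd h (by simp)
    | coe a => exact K.anti (WithTop.coe_le_coe.1 h)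

/-- The diagram of quotients. -/
noncomputable def quotDiagram (K : SpSeq.FilCx A) : Idx.{v}ᵒᵖ ⥤ CochainComplex A ℤ where
  obj c := cokernel (filTop K c.unop).arrow
  map {c c'} f := cokernel.desc _ (cokernel.π (filTop K c'.unop).arrow) (by
    rw [← Subobject.ofLE_arrow (filTop_anti K (leOfHom f.unop)), assoc, cokernel.condition, comp_zero])
  map_id c := by apply coequalizer.hom_ext; simp
  map_comp f g := by apply coequalizer.hom_ext; simp

/-- The index of a step. -/
abbrev idx (p : ℤ) : Idx.{v}ᵒᵖ := .op ⟨(p : WithTop ℤ)⟩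

/-- The index of the whole complex. -/
abbrev top : Idx.{v}ᵒᵖ := .op ⟨⊤⟩

/-- From the whole complex to the quotients. -/
def fromTop (p : ℤ) : top.{v} ⟶ idx p := (homOfLE (show (⟨(p : WithTop ℤ)⟩ : Idx.{v}) ≤ ⟨⊤⟩ from le_top)).op

/-- Between quotients. -/
def trans {p p' : ℤ} (h : p ≤ p') : idx.{v} p' ⟶ idx p :=
  (homOfLE (show (⟨(p : WithTop ℤ)⟩ : Idx.{v}) ≤ ⟨(p' : WithTop ℤ)⟩ from WithTop.coe_le_coe.2 h)).op

lemma quotDiagram_fromTop (K : SpSeq.FilCx A) (p : ℤ) :
    cokernel.π (filTop K (top.{v}).unop).arrow ≫ (quotDiagram K).map (fromTop p) = cokernel.π (K.fil p).arrow :=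
  cokernel.π_desc _ _ _

instance isIso_π_top (K : SpSeq.FilCx A) : IsIso (cokernel.π (filTop K (top.{v}).unop).arrow) := by
  have h : (filTop K (top.{v}).unop).arrow = 0 := by simp [filTop]
  refine ⟨cokernel.desc _ (𝟙 _) (by rw [h, zero_comp]), cokernel.π_desc _ _ _, ?_⟩
  apply coequalizer.hom_ext
  simp

variable [IsGrothendieckAbelian.{v} A]

theorem exists_filtered_kInjective_embedding (K : SpSeq.FilCx A) :
    ∃ (J : SpSeq.FilCx A) (j : K ⟶ J),
      (∀ n p : ℤ, Injective (J.obj.X n) ∧ Injective ((J.XFil n).step p) ∧ Injective ((J.XFil n).quot p) ∧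
        ∀ (p' : ℤ) (h : p ≤ p'), Injective (cokernel ((J.XFil n).stepLE h))) ∧
      (CochainComplex.IsKInjective J.obj ∧ ∀ p : ℤ, CochainComplex.IsKInjective (J.step p) ∧
        CochainComplex.IsKInjective (J.quot p) ∧
        ∀ (p' : ℤ) (h : p ≤ p'), CochainComplex.IsKInjective (cokernel (J.stepLE h))) ∧
      QuasiIso j.hom ∧
      (∀ p : ℤ, ∃ jp : K.step p ⟶ J.step p, jp ≫ (J.fil p).arrow = (K.fil p).arrow ≫ j.hom ∧ QuasiIso jp ∧
        (∀ (p' : ℤ) (h : p ≤ p'), ∃ (jp' : K.step p' ⟶ J.step p') (jg : cokernel (K.stepLE h) ⟶ cokernel (J.stepLE h)),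
          jp' ≫ (J.fil p').arrow = (K.fil p').arrow ≫ j.hom ∧ jp' ≫ J.stepLE h = K.stepLE h ≫ jp ∧
          cokernel.π (K.stepLE h) ≫ jg = jp ≫ cokernel.π (J.stepLE h) ∧ QuasiIso jg)) ∧
      (∀ p : ℤ, ∃ jq : K.quot p ⟶ J.quot p,
        cokernel.π (K.fil p).arrow ≫ jq = j.hom ≫ cokernel.π (J.fil p).arrow ∧ QuasiIso jq) := by
  obtain ⟨R, η, hK, hη, hinj, hsec⟩ := exists_resolution (quotDiagram K)
  let j₀ : K.obj ⟶ R.obj top := cokernel.π (filTop K (top.{v}).unop).arrow ≫ η.app top
  let c : ∀ p : ℤ, R.obj top ⟶ R.obj (idx p) := fun p => R.map (fromTop p)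
  have hj₀ : ∀ p, j₀ ≫ c p = cokernel.π (K.fil p).arrow ≫ η.app (idx p) := fun p => by
    rw [← quotDiagram_fromTop K p]
    simp only [j₀, c, assoc]
    rw [η.naturality]
  let fil : ℤ → Subobject (R.obj top) := fun p => kernelSubobject (c p)
  have anti : Antitone fil := fun p p' h => by
    have e : c p = c p' ≫ R.map (trans h) := by
      simp only [c, ← R.map_comp]
      exact congrArg R.map (Subsingleton.elim _ _)
    simp only [fil]
    rw [e]
    exact kernelSubobject_comp_le _ _
  let J : SpSeq.FilCx A := ⟨R.obj top, fil, anti⟩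
  have hw : ∀ p, (J.fil p).arrow ≫ c p = 0 := fun p => kernelSubobject_arrow_comp (c p)
  have fac : ∀ p, ((K.fil p).arrow ≫ j₀) ≫ c p = 0 := fun p => by
    rw [assoc, hj₀, cokernel.condition_assoc, zero_comp]
  let jp : ∀ p, K.step p ⟶ J.step p := fun p => factorThruKernelSubobject (c p) _ (fac p)
  have hjp : ∀ p, jp p ≫ (J.fil p).arrow = (K.fil p).arrow ≫ j₀ := fun p =>
    factorThruKernelSubobject_comp_arrow _ _ _
  have compat : ∀ p, K.fil p ≤ (Subobject.pullback j₀).obj (J.fil p) := fun p =>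
    Subobject.le_of_comm ((Subobject.isPullback j₀ (J.fil p)).lift (jp p) (K.fil p).arrow (hjp p))
      ((Subobject.isPullback j₀ (J.fil p)).lift_snd _ _ _)
  let j : K ⟶ J := ⟨j₀, compat⟩
  have hepi : ∀ p, Epi (c p) := fun p => by
    have : ∀ n, Epi ((c p).f n) := fun n => by
      obtain ⟨s, hs⟩ := hsec (fromTop p) n
      exact (SplitEpi.mk s hs).epi
    exact epi_of_epi_f _ this
  let SJ : ℤ → ShortComplex (CochainComplex A ℤ) := fun p => ShortComplex.mk _ _ (hw p)
  have hSJ : ∀ p, (SJ p).ShortExact := fun p =>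
    { exact := ShortComplex.exact_of_f_is_kernel _ (IsLimit.ofIsoLimit (kernelIsKernel (c p))
        (Fork.ext (kernelSubobjectIso (c p)).symm (by simp [SJ, J, fil])))
      mono_f := inferInstanceAs (Mono (J.fil p).arrow)
      epi_g := hepi p }
  let SK : ℤ → ShortComplex (CochainComplex A ℤ) := fun p =>
    ShortComplex.mk (K.fil p).arrow (cokernel.π (K.fil p).arrow) (cokernel.condition _)
  have hSK : ∀ p, (SK p).ShortExact := fun p =>
    { exact := ShortComplex.exact_cokernel _
      mono_f := inferInstanceAs (Mono (K.fil p).arrow)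
      epi_g := inferInstanceAs (Epi (cokernel.π (K.fil p).arrow)) }
  have hj : QuasiIso j₀ := by
    have := hη top
    exact inferInstanceAs (QuasiIso (cokernel.π (filTop K (top.{v}).unop).arrow ≫ η.app top))
  let φ : ∀ p, SK p ⟶ SJ p := fun p =>
    { τ₁ := jp p, τ₂ := j₀, τ₃ := η.app (idx p), comm₁₂ := hjp p, comm₂₃ := hj₀ p }
  have hjpq : ∀ p, QuasiIso (jp p) := fun p => quasiIso_τ₁ (φ p) (hSK p) (hSJ p) hj (hη (idx p))
  have hsplit : ∀ p n, Nonempty ((SJ p).map (eval A (ComplexShape.up ℤ) n)).Splitting := fun p n => by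
    obtain ⟨s, hs⟩ := hsec (fromTop p) n
    have h := (hSJ p).map_of_exact (eval A (ComplexShape.up ℤ) n)
    have := h.mono_f
    exact ⟨ShortComplex.Splitting.ofExactOfSection _ h.exact s hs h.mono_f⟩
  have hstep : ∀ p, CochainComplex.IsKInjective (J.step p) := fun p =>
    isKInjective_X₁ (fun n => (hsplit p n).some) (hK top) (hK (idx p))
  have hstepX : ∀ p n, Injective ((J.step p).X n) := fun p n =>
    injective_X₁ (hsplit p n).some (hinj top n)
  let e : ∀ p, J.quot p ≅ R.obj (idx p) := fun p =>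
    IsColimit.coconePointUniqueUpToIso (cokernelIsCokernel _) (hSJ p).gIsCokernel
  have he : ∀ p, cokernel.π (J.fil p).arrow ≫ (e p).hom = c p := fun p =>
    IsColimit.comp_coconePointUniqueUpToIso_hom (cokernelIsCokernel (J.fil p).arrow) (hSJ p).gIsCokernel
      WalkingParallelPair.one
  -- the graded pieces
  let SG : ∀ (L : SpSeq.FilCx A) {p p' : ℤ} (_ : p ≤ p'), ShortComplex (CochainComplex A ℤ) := fun L _ _ h =>
    ShortComplex.mk (L.stepLE h) (cokernel.π (L.stepLE h)) (cokernel.condition _)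
  have hSG : ∀ (L : SpSeq.FilCx A) {p p' : ℤ} (h : p ≤ p'), (SG L h).ShortExact := fun L p p' h =>
    { exact := ShortComplex.exact_cokernel _
      mono_f := inferInstanceAs (Mono (L.stepLE h))
      epi_g := inferInstanceAs (Epi (cokernel.π (L.stepLE h))) }
  have hGsplit : ∀ {p p' : ℤ} (h : p ≤ p') (n : ℤ),
      Nonempty ((SG J h).map (eval A (ComplexShape.up ℤ) n)).Splitting := fun {p p'} h n =>
    have h' := (hSG J h).map_of_exact (eval A (ComplexShape.up ℤ) n)
    have : Injective ((SG J h).map (eval A (ComplexShape.up ℤ) n)).X₁ := hstepX p' n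
    ⟨h'.splittingOfInjective⟩
  refine ⟨J, j, fun n p => ?_, ⟨hK top, fun p => ⟨hstep p, ?_, ?_⟩⟩, hj,
    fun p => ⟨jp p, hjp p, hjpq p, fun p' h => ?_⟩, fun p => ?_⟩
  · have hpiece : ∀ p, Injective ((J.XFil n).step p) := fun p =>
      Injective.of_iso (Subobject.underlyingIso ((J.fil p).arrow.f n)).symm (hstepX p n)
    refine ⟨hinj top n, hpiece p, ?_, fun p' h => ?_⟩
    · have h1 : ((J.XFil n).fil p).arrow =
          (Subobject.underlyingIso ((J.fil p).arrow.f n)).hom ≫ (J.fil p).arrow.f n :=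
        (Subobject.underlyingIso_hom_comp_eq_mk _).symm
      have h2 := ((hSJ p).map_of_exact (eval A (ComplexShape.up ℤ) n)).gIsCokernel
      refine Injective.of_iso (IsColimit.coconePointUniqueUpToIso h2 (cokernelIsCokernel _) ≪≫ ?_) (hinj (idx p) n)
      exact (cokernelEpiComp _ _).symm ≪≫ cokernelIsoOfEq h1.symm
    · have h1 : (J.XFil n).stepLE h ≫ (Subobject.underlyingIso ((J.fil p).arrow.f n)).hom =
          (Subobject.underlyingIso ((J.fil p').arrow.f n)).hom ≫ (J.stepLE h).f n := by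
        rw [← cancel_mono ((J.fil p).arrow.f n), assoc, assoc, ← comp_f, Subobject.ofLE_arrow]
        change _ ≫ _ ≫ (J.fil p).arrow.f n = (Subobject.underlyingIso ((J.fil p').arrow.f n)).hom ≫ _
        rw [Subobject.underlyingIso_hom_comp_eq_mk, Subobject.underlyingIso_hom_comp_eq_mk]
        exact Subobject.ofLE_arrow _
      have h2 := ((hSG J h).map_of_exact (eval A (ComplexShape.up ℤ) n)).gIsCokernel
      refine Injective.of_iso (IsColimit.coconePointUniqueUpToIso h2 (cokernelIsCokernel _) ≪≫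
        (cokernel.mapIso _ _ (Subobject.underlyingIso ((J.fil p').arrow.f n))
          (Subobject.underlyingIso ((J.fil p).arrow.f n)) h1).symm) (injective_X₃ (hGsplit h n).some (hstepX p n))
  · have := hK (idx p)
    exact CochainComplex.isKInjective_of_iso (e p).symm
  · exact fun p' h => isKInjective_X₃ (fun n => (hGsplit h n).some) (hstep p') (hstep p)
  · have h1 : jp p' ≫ J.stepLE h = K.stepLE h ≫ jp p := by
      rw [← cancel_mono (J.fil p).arrow, assoc, assoc, Subobject.ofLE_arrow, hjp, hjp, Subobject.ofLE_arrow_assoc]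
    let jg : cokernel (K.stepLE h) ⟶ cokernel (J.stepLE h) := cokernel.map _ _ (jp p') (jp p) h1.symm
    refine ⟨jp p', jg, hjp p', h1, cokernel.π_desc _ _ _, ?_⟩
    let ψ : SG K h ⟶ SG J h :=
      { τ₁ := jp p', τ₂ := jp p, τ₃ := jg, comm₁₂ := h1, comm₂₃ := (cokernel.π_desc _ _ _).symm }
    exact HomologySequence.quasiIso_τ₃ ψ (hSG K h) (hSG J h) (hjpq p') (hjpq p)
  · have := hη (idx p)
    refine ⟨η.app (idx p) ≫ (e p).inv, ?_, inferInstance⟩
    rw [← assoc, ← hj₀, assoc]
    exact congrArg (fun x => j₀ ≫ x) ((Iso.comp_inv_eq _).2 (he p).symm)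

end Groth.Agent.FilKInj
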