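import Groth.Agent.KInj.Ops
import Mathlib.Algebra.Homology.HomologySequenceLemmas
import Mathlib.Algebra.Homology.HomotopyCategory.DegreewiseSplit
import Mathlib.Algebra.Homology.HomotopyCategory.KInjective
import Mathlib.CategoryTheory.Triangulated.Orthogonal

/-!
Degreewise split short exact sequences: K-injectivity, quasi-isomorphisms, injectivity.
-/

set_option backward.isDefEq.respectTransparency false
set_option backward.isDefEq.respectTransparency.types false
set_option autoImplicit false

universe v u

namespace Groth.Agent.FilKInj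

open CategoryTheory Category Limits HomologicalComplex Pretriangulated

variable {A : Type u} [Category.{v} A] [Abelian A]

lemma quasiIso_τ₁ {S₁ S₂ : ShortComplex (CochainComplex A ℤ)} (φ : S₁ ⟶ S₂) (hS₁ : S₁.ShortExact)
    (hS₂ : S₂.ShortExact) (h₂ : QuasiIso φ.τ₂) (h₃ : QuasiIso φ.τ₃) : QuasiIso φ.τ₁ := by
  rw [quasiIso_iff]
  intro j
  rw [quasiIsoAt_iff_isIso_homologyMap]
  have hij : (ComplexShape.up ℤ).Rel (j - 1) j := by simp
  exact Abelian.isIso_of_epi_of_isIso_of_isIso_of_mono
    (R₁ := (HomologySequence.composableArrows₅ hS₁ _ _ hij).δ₀)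
    (R₂ := (HomologySequence.composableArrows₅ hS₂ _ _ hij).δ₀)
    (HomologySequence.composableArrows₅_exact hS₁ _ _ hij).δ₀
    (HomologySequence.composableArrows₅_exact hS₂ _ _ hij).δ₀
    (ComposableArrows.δ₀Functor.map (HomologySequence.mapComposableArrows₅ φ hS₁ hS₂ _ _ hij))
    (show Epi (homologyMap φ.τ₂ (j - 1)) from inferInstance)
    (show IsIso (homologyMap φ.τ₃ (j - 1)) from inferInstance)
    (show IsIso (homologyMap φ.τ₂ j) from inferInstance)
    (show Mono (homologyMap φ.τ₃ j) from inferInstance)

variable {S : ShortComplex (CochainComplex A ℤ)}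
  (σ : ∀ n, (S.map (eval A (ComplexShape.up ℤ) n)).Splitting)

include σ

lemma distinguished_of_splitting :
    (HomotopyCategory.quotient A (ComplexShape.up ℤ)).mapTriangle.obj
      (CochainComplex.triangleOfDegreewiseSplit S σ) ∈ distTriang _ := by
  change CochainComplex.trianglehOfDegreewiseSplit S σ ∈ distTriang _
  rw [rotate_distinguished_triangle, rotate_distinguished_triangle]
  exact isomorphic_distinguished _ (HomotopyCategory.mappingCone_triangleh_distinguished _) _
    (CochainComplex.trianglehOfDegreewiseSplitRotateRotateIso S σ)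

lemma isKInjective_X₁ (h₂ : S.X₂.IsKInjective) (h₃ : S.X₃.IsKInjective) : S.X₁.IsKInjective := by
  rw [CochainComplex.isKInjective_iff_rightOrthogonal] at h₂ h₃ ⊢
  exact (HomotopyCategory.subcategoryAcyclic A).rightOrthogonal.ext_of_isTriangulatedClosed₁
    _ (distinguished_of_splitting σ) h₂ h₃

lemma isKInjective_X₃ (h₁ : S.X₁.IsKInjective) (h₂ : S.X₂.IsKInjective) : S.X₃.IsKInjective := by
  rw [CochainComplex.isKInjective_iff_rightOrthogonal] at h₁ h₂ ⊢
  exact (HomotopyCategory.subcategoryAcyclic A).rightOrthogonal.ext_of_isTriangulatedClosed₃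
    _ (distinguished_of_splitting σ) h₁ h₂

omit σ

lemma injective_X₁ {T : ShortComplex A} (σ : T.Splitting) (h : Injective T.X₂) : Injective T.X₁ :=
  (Retract.mk T.f σ.r σ.f_r).injective

lemma injective_X₃ {T : ShortComplex A} (σ : T.Splitting) (h : Injective T.X₂) : Injective T.X₃ :=
  (Retract.mk σ.s T.g σ.s_g).injective

end Groth.Agent.FilKInj
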